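import Cfsg.Agent.H188.RC.ThmA
import Cfsg.Agent.H236.RC.Ident
import Cfsg.Agent.H170.RC.Four

/-!
# S3510, row F (even), box E5, case (3): the M-rule for a four-dimensional subspace of minus type (helper551)
-/

set_option autoImplicit false
set_option linter.unusedSectionVars false
open Cfsg

namespace Cfsg.Agent.H551.E5

open QuadraticMap MulAction
open Cfsg.Agent.LieClassical.OrthCore Cfsg.Agent.LieClassical.OrthTrans
open Cfsg.Agent.LieClassical.OrthSimple Cfsg.Agent.ClassicalGeometry.OrthSemi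
open Cfsg.Agent.ClassicalGeometry.OrthAut1 Cfsg.Agent.H106.RC Cfsg.Agent.H93.RC
open Cfsg.Agent.GenOrth Cfsg.Agent.H188.RC Cfsg.Agent.H170.RC Cfsg.Agent.H236.RC

section card

variable {F V : Type} [Field F] [Finite F] [AddCommGroup V] [Module F V] [FiniteDimensional F V]
  {Q : QuadraticForm F V}

/-- the group of a four-dimensional subspace of minus type is smaller -/
theorem card_lt4 (hG : Good Q) (W : Submodule F V) (hW : Minus4 (Q.comp W.subtype)) (hWt : W ≠ ⊤) :
    Nat.card (P (Q.comp W.subtype)) < Nat.card (P Q) := by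
  have he : ∀ w : W, (embW hW.nondeg).j w = w := embW_j hW.nondeg
  set e := embW hW.nondeg with hedef
  have hf1 := finite_E (Q := Q)
  have hf2 := finite_E (Q := Q.comp W.subtype)
  have hf3 := finite_P (Q := Q)
  have hf4 := finite_P (Q := Q.comp W.subtype)
  obtain ⟨v, hv0, hv⟩ := exists_perp hW.nondeg hWt
  let f : ↥(E (Q.comp W.subtype)) →* P Q := (QuotientGroup.mk' _).comp e.extE
  have hf : Function.Injective f := by
    rw [injective_iff_map_eq_one]
    intro g hg
    exact eq_one_of_extE_center hG hW.nondeg hWt ((QuotientGroup.eq_one_iff _).1 hg)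
  have h1 : Nat.card (P (Q.comp W.subtype)) ≤ Nat.card ↥(E (Q.comp W.subtype)) :=
    Nat.card_le_card_of_surjective _ (QuotientGroup.mk'_surjective (Subgroup.center ↥(E (Q.comp W.subtype))))
  have h2 : Nat.card ↥(E (Q.comp W.subtype)) ≤ Nat.card (P Q) := Nat.card_le_card_of_injective f hf
  refine lt_of_le_of_ne (h1.trans h2) fun heq => ?_
  have h3 : Nat.card ↥(E (Q.comp W.subtype)) = Nat.card (P Q) := le_antisymm h2 (heq ▸ h1)
  have hfs : Function.Surjective f := ((Nat.bijective_iff_injective_and_card f).2 ⟨hf, h3⟩).2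
  -- every element of `E Q` preserves `W`
  have hinv : ∀ g ∈ E Q, ∀ w : W, g w ∈ W := by
    intro g hg w
    obtain ⟨k, hk⟩ := hfs (QuotientGroup.mk (⟨g, hg⟩ : ↥(E Q)))
    have h4 : (e.extE k)⁻¹ * ⟨g, hg⟩ ∈ Subgroup.center ↥(E Q) := QuotientGroup.eq.1 hk
    obtain ⟨a, -, ha⟩ := scal_of_center hG h4
    have h5 := ha w
    have h6 : g w = e.ext k (a • (w : V)) := by
      rw [← h5]
      show g w = e.ext k (((e.extE k)⁻¹ * ⟨g, hg⟩ : ↥(E Q)).1 w)
      have h7 : e.ext k * ((e.extE k)⁻¹ * ⟨g, hg⟩ : ↥(E Q)).1 = g := by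
        rw [← GenOrth.Emb.extE_coe, ← Subgroup.coe_mul, mul_inv_cancel_left]
      exact (LinearEquiv.congr_fun h7 (w : V)).symm
    rw [h6, map_smul, ← he w, e.ext_j, he]
    exact W.smul_mem a (k.1 w).2
  obtain ⟨x, y, hxy⟩ := hW.exists_hyp
  have hx : Q (x : V) = 0 := hxy.left
  have hy : Q (y : V) = 0 := hxy.right
  have hp : polar Q (x : V) (y : V) = 1 := by
    have := hxy.pair
    simpa only [polar, QuadraticMap.comp_apply, map_add, Submodule.subtype_apply] using this
  have hpv : ∀ w : W, polar Q (w : V) v = 0 := by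
    intro w
    have := e.adj w v
    rw [hv, polar_zero_right, mul_zero, he] at this
    exact this
  have hvW : v ∉ W := by
    intro h
    have h4 := e.π_j ⟨v, h⟩
    rw [he] at h4
    have h5 : (⟨v, h⟩ : W) = 0 := by rw [← h4]; exact hv
    exact hv0 (congrArg Subtype.val h5)
  set u : V := (x : V) + v - Q v • (y : V) with hu
  have huW : u ∉ W := by
    intro h
    apply hvW
    have : v = u - (x : V) + Q v • (y : V) := by rw [hu]; abel
    rw [this]
    exact W.add_mem (W.sub_mem h x.2) (W.smul_mem _ y.2)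
  have hu0 : Q u = 0 := by
    have e1 : ∀ a b : V, Q (a + b) = Q a + Q b + polar Q a b := fun a b => by
      rw [QuadraticMap.polar]; ring
    have e2 : u = ((x : V) + v) + (-(Q v)) • (y : V) := by rw [hu, neg_smul]; abel
    rw [e2, e1, e1, hx, QuadraticMap.map_smul, hy, polar_add_left, polar_smul_right, polar_smul_right, hp,
      polar_comm Q v y, hpv y, hpv x]
    simp
  have hune : u ≠ 0 := fun h => huW (h ▸ W.zero_mem)
  have hx0 : (x : V) ≠ 0 := by
    intro h
    rw [h, polar_zero_left] at hp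
    exact zero_ne_one hp
  obtain ⟨g, hg, hgx⟩ := hG.trans_sing hx hu0 hx0 hune
  exact huW (hgx ▸ hinv g hg x)

end card

section main

variable {F V : Type*} [Field F] [Finite F] [AddCommGroup V] [Module F V] [FiniteDimensional F V]
  {Q : QuadraticForm F V} {G Ω : Type*} [Group G] [MulAction G Ω]
  {N : Subgroup G} {ρ : ↥(E Q) →* G} {W : Submodule F V}

/-- an element centralises `M` iff its lift is scalar on `W` -/
theorem cent_iff4 (hG : Good Q) (hρ : Rep Q N ρ) (hW : Minus4 (Q.comp W.subtype)) (hWt : W ≠ ⊤) {x : G} {M : Gam Q}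
    (hl : Lf ρ x M) (hinv : ∀ v ∈ W, M.1 v ∈ W) :
    (∀ m ∈ (phi ρ hW.nondeg).range, x * m = m * x) ↔ ScalOn M W := by
  obtain ⟨L, hLM, hL⟩ := phi_conj hW.nondeg hl hinv
  constructor
  · intro h
    have h1 : conjE (Q.comp W.subtype) L = 1 := by
      ext g : 1
      apply phi_injective hG hρ hW.nondeg hWt
      rw [← hL, h _ ⟨g, rfl⟩, mul_inv_cancel_right, MulAut.one_apply]
    obtain ⟨a, ha, h2⟩ := hW.scal L h1
    refine ⟨a, ha, fun v hv => ?_⟩
    have h3 := congrArg Subtype.val (h2 ⟨v, hv⟩)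
    rw [hLM] at h3
    exact h3
  · rintro ⟨a, ha, h⟩ _ ⟨g, rfl⟩
    have h1 : conjE (Q.comp W.subtype) L = 1 :=
      conjE_of_scal ⟨a, ha, fun v => Subtype.ext (by rw [hLM, h v v.2]; rfl)⟩
    have h2 := hL g
    rw [h1, MulAut.one_apply, mul_inv_eq_iff_eq_mul] at h2
    exact h2

/-- **The M-rule for `W`.** -/
theorem mrule4 [Finite G] (hG : Good Q) (hρ : Rep Q N ρ)
    {ι : Type*} [Finite ι] {x : ι → G} {M : ι → Gam Q} {r : ι → ℕ} (hl : ∀ i, Lf ρ (x i) (M i))
    (hr : ∀ i, (r i).Prime) (hx : ∀ i, x i ^ r i = 1)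
    (hc : ∀ i j, x i * x j = x j * x i) (hcov : Cov Ω x)
    (hW : Minus4 (Q.comp W.subtype)) (hWt : W ≠ ⊤)
    (hinv : ∀ i, ∀ v ∈ W, (M i).1 v ∈ W) (hne : ∃ i, ¬ ScalOn (M i) W)
    (hinj : Set.InjOn r {i | ¬ ScalOn (M i) W})
    (hRC : RC (P (Q.comp W.subtype)) ∨ {i | ¬ ScalOn (M i) W}.Subsingleton) (ω : Ω) :
    (phi ρ hW.nondeg).range ≤ stabilizer G ω ∨ ∃ j, ScalOn (M j) W ∧ x j • ω = ω := by
  classical
  by_cases hω : ∃ j, ScalOn (M j) W ∧ x j • ω = ω
  · exact Or.inr hω
  left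
  push Not at hω
  have hφ := phi_injective (ρ := ρ) hG hρ hW.nondeg hWt
  set φ := phi ρ hW.nondeg with hφdef
  have hperf : ⁅φ.range, φ.range⁆ = φ.range := by
    have h1 : commutator ↥(E (Q.comp W.subtype)) = ⊤ := hW.commutator_E
    rw [commutator_def] at h1
    rw [MonoidHom.range_eq_map φ, ← Subgroup.map_commutator, h1]
  let π : ↥φ.range →* P (Q.comp W.subtype) :=
    (QuotientGroup.mk' (Subgroup.center ↥(E (Q.comp W.subtype)))).comp (MonoidHom.ofInjective hφ).symm.toMonoidHom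
  have hπ : Function.Surjective π :=
    (QuotientGroup.mk'_surjective _).comp (MonoidHom.ofInjective hφ).symm.surjective
  have hker : π.ker ≤ Subgroup.center ↥φ.range := by
    intro m hm
    rw [MonoidHom.mem_ker] at hm
    have h1 : (MonoidHom.ofInjective hφ).symm m ∈ Subgroup.center ↥(E (Q.comp W.subtype)) :=
      (QuotientGroup.eq_one_iff _).mp hm
    rw [Subgroup.mem_center_iff]
    intro n
    apply (MonoidHom.ofInjective hφ).symm.injective
    rw [map_mul, map_mul]
    exact Subgroup.mem_center_iff.mp h1 _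
  -- the subfamily
  let K : Set ι := {i | ¬ ScalOn (M i) W}
  have hnorm : ∀ i, x i ∈ Subgroup.normalizer ((φ.range : Subgroup G) : Set G) := by
    intro i
    obtain ⟨L, -, hL⟩ := phi_conj hW.nondeg (hl i) (hinv i)
    rw [Subgroup.mem_normalizer_iff]
    intro m
    constructor
    · rintro ⟨g, rfl⟩
      exact ⟨_, (hL g).symm⟩
    · rintro ⟨g, hg⟩
      refine ⟨(conjE (Q.comp W.subtype) L)⁻¹ g, ?_⟩
      have h2 := hL ((conjE (Q.comp W.subtype) L)⁻¹ g)
      rw [MulAut.apply_inv_self] at h2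
      have h3 : x i * φ ((conjE (Q.comp W.subtype) L)⁻¹ g) * (x i)⁻¹ = x i * m * (x i)⁻¹ := h2.trans hg
      exact mul_left_cancel (mul_right_cancel h3)
  have hcent : ∀ i, (∀ m ∈ φ.range, x i * m = m * x i) ↔ ScalOn (M i) W := fun i =>
    cent_iff4 hG hρ hW hWt (hl i) (hinv i)
  have hcovK : ∀ m ∈ φ.range, ∃ i : K, x i • m • ω = m • ω := by
    intro m hm
    obtain ⟨i, hi⟩ := hcov (m • ω)
    by_cases hs : ScalOn (M i) W
    · exfalso
      apply hω i hs
      rw [← mul_smul, (hcent i).mpr hs m hm, mul_smul] at hi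
      exact smul_left_cancel m hi
    · exact ⟨⟨i, hs⟩, hi⟩
  have hrule : φ.range ≤ stabilizer G ω ∨
      ∃ j : K, (∀ m ∈ φ.range, x j * m = m * x j) ∧ x j • ω = ω := by
    rcases hRC with h | h
    · exact mrule_RC hW.simple hW.not_comm (fun i : K => x i) (fun i : K => r i)
        (fun i => hr i) (fun i j hij => Subtype.ext (hinj i.2 j.2 hij)) (fun i => hx i) (fun i j => hc i j)
        φ.range hperf π hπ hker (fun i => hnorm i) h ω hcovK
    · obtain ⟨i₀, hi₀⟩ := hne
      exact mrule_one hW.simple hW.not_comm (fun i : K => x i) (fun i : K => r i)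
        (fun i => hr i) (fun i j hij => Subtype.ext (hinj i.2 j.2 hij)) (fun i => hx i) (fun i j => hc i j)
        φ.range hperf π hπ hker ⟨i₀, hi₀⟩ (hnorm i₀) (fun i hi => (hi (Subtype.ext (h i.2 hi₀))).elim) ω hcovK
  rcases hrule with h | ⟨j, hj, -⟩
  · exact h
  · exact (j.2 ((hcent j).mp hj)).elim

end main

end Cfsg.Agent.H551.E5
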