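import Cfsg.Agent.H551.E5.Big
import Cfsg.Agent.H551.E5.MRule4
import Cfsg.Agent.H273.RC.Case3Lem

/-!
# S3510, row F (even), box E5, case (3): `V = D ⊥ D'`, both of dimension four (helper551)
-/

set_option autoImplicit false
set_option linter.unusedSectionVars false
open Cfsg

namespace Cfsg.Agent.H551.E5

open QuadraticMap MulAction Module
open Cfsg.Agent.LieClassical.OrthCore Cfsg.Agent.LieClassical.OrthTrans
open Cfsg.Agent.LieClassical.OrthSimple Cfsg.Agent.ClassicalGeometry.OrthSemi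
open Cfsg.Agent.ClassicalGeometry.OrthAut1 Cfsg.Agent.H106.RC Cfsg.Agent.H93.RC
open Cfsg.Agent.H273.RC.Fev Cfsg.Agent.H170.RC Cfsg.Agent.H188.RC Cfsg.Agent.H236.RC

/-- the number of singular vectors -/
def L1 (F : Type) [Field F] : Prop :=
  ∀ (X : Type) [AddCommGroup X] [Module F X] (R : QuadraticForm F X), Nondeg R → finrank F X = 4 →
    ∀ L : Submodule F X, finrank F L = 2 → (∀ v ∈ L, R v = 0) →
      Nat.card {v : X // R v = 0} = Nat.card F ^ 3 + Nat.card F ^ 2 - Nat.card F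

/-- a semisimple element with a fixed vector -/
def L2 (F : Type) [Field F] (p : ℕ) : Prop :=
  ∀ (X : Type) [AddCommGroup X] [Module F X] (R : QuadraticForm F X), Minus4 R →
    ∃ g : ↥(E R), ∃ s : ℕ, s.Prime ∧ s ≠ p ∧ g ^ s = 1 ∧ g ≠ 1 ∧ ∃ v : X, v ≠ 0 ∧ (g : X ≃ₗ[F] X) v = v

section geom

variable {F V ι : Type} [Field F] [Finite F] [AddCommGroup V] [Module F V] [FiniteDimensional F V]
  {Q : QuadraticForm F V}

/-- fixed points on an irreducible subspace -/
theorem fpf {T : ι → V ≃ₗ[F] V} (hc : ∀ i j, en T i * en T j = en T j * en T i)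
    {D : Submodule F V} (hirr : ∀ U ≤ D, (∀ i, ∀ v ∈ U, T i v ∈ U) → U ≠ ⊥ → U = D) (hTD : ∀ i, ∀ v ∈ D, T i v ∈ D)
    (i : ι) (h : ∃ v ∈ D, T i v ≠ v) : ∀ v ∈ D, T i v = v → v = 0 := by
  let U : Submodule F V :=
    { carrier := {v | v ∈ D ∧ T i v = v}
      zero_mem' := ⟨D.zero_mem, map_zero _⟩
      add_mem' := fun {u v} hu hv => ⟨D.add_mem hu.1 hv.1, by rw [map_add, hu.2, hv.2]⟩
      smul_mem' := fun a v hv => ⟨D.smul_mem a hv.1, by rw [map_smul, hv.2]⟩ }
  intro v hv hTv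
  by_contra hv0
  have h1 : U = D := by
    apply hirr U (fun v hv => hv.1)
    · intro j v hv
      refine ⟨hTD j v hv.1, ?_⟩
      have h2 : T i (T j v) = T j (T i v) := LinearMap.congr_fun (hc i j) v
      rw [h2, hv.2]
    · intro h0
      have h2 : v ∈ U := ⟨hv, hTv⟩
      rw [h0] at h2
      exact hv0 ((Submodule.mem_bot F).1 h2)
  obtain ⟨w, hw, hne⟩ := h
  rw [← h1] at hw
  exact hne hw.2

/-- an irreducible four-dimensional space is of minus type -/
theorem noplane (hL1 : L1 F) {T : ι → V ≃ₗ[F] V} {r : ι → ℕ} (hr : ∀ i, (r i).Prime)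
    (hTr : ∀ i, en T i ^ r i = 1) (hI : ∀ i, Iso Q (en T i)) (hc : ∀ i j, en T i * en T j = en T j * en T i)
    {D : Submodule F V} (nD : NonD Q D) (hD4 : finrank F D = 4) (hTD : ∀ i, ∀ v ∈ D, T i v ∈ D)
    (hirr : ∀ U ≤ D, (∀ i, ∀ v ∈ U, T i v ∈ U) → U ≠ ⊥ → U = D) : Minus4 (Q.comp D.subtype) := by
  have hfV : Finite V := Module.finite_of_finite F
  apply Minus4.of_le_one (nonD_iff.1 nD) hD4
  intro U hU
  by_contra hcon
  push Not at hcon
  -- a plane
  obtain ⟨L, hLU, hL2⟩ : ∃ L ≤ U, finrank F L = 2 := by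
    obtain ⟨f, hf⟩ := exists_linearIndependent_of_le_finrank (R := F) (M := U) (n := 2) hcon
    refine ⟨Submodule.span F (Set.range fun i => ((f i : U) : D)), ?_, ?_⟩
    · rw [Submodule.span_le]
      rintro _ ⟨i, rfl⟩
      exact (f i).2
    · have h1 : LinearIndependent F (fun i => ((f i : U) : D)) := hf.map' U.subtype (Submodule.ker_subtype U)
      rw [finrank_span_eq_card h1, Fintype.card_fin]
  have hcard := hL1 D (Q.comp D.subtype) (nonD_iff.1 nD) hD4 L hL2 fun v hv => hU v (hLU hv)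
  obtain ⟨k, v0, hv0, hk⟩ := exists_big hc hD4 hTD hirr
  have hfix := fpf hc hirr hTD k ⟨v0, hv0, fun h => hk (by
    have h1 : en T k v0 = v0 := h
    rw [pow_fix h1, h1])⟩
  let Z : Set V := {v | v ∈ D ∧ Q v = 0}
  have hZ : Nat.card Z = Nat.card {v : D // Q.comp D.subtype v = 0} := by
    apply Nat.card_congr
    exact { toFun := fun z => ⟨⟨z.1, z.2.1⟩, z.2.2⟩
            invFun := fun v => ⟨v.1.1, v.1.2, v.2⟩
            left_inv := fun _ => rfl
            right_inv := fun _ => rfl }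
  have h1 := card_modEq (Y := Z) (S := en T k) (hr k) (hTr k)
    (fun v hv => ⟨hTD k v hv.1, (hI k v).trans hv.2⟩) ⟨D.zero_mem, QuadraticMap.map_zero Q⟩
    (fun v hv h => hfix v hv.1 h)
  rw [hZ, hcard] at h1
  have hq : 2 ≤ Nat.card F := Finite.one_lt_card
  have h2 : r k ∣ Nat.card F ^ 2 - 1 := by
    generalize Nat.card F = q at h1 hq
    obtain ⟨q, rfl⟩ : ∃ q', q = q' + 1 := ⟨q - 1, by omega⟩
    have e1 : (q + 1) ^ 3 + (q + 1) ^ 2 - (q + 1) = q * (q + 2) * (q + 2) + 1 := by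
      have : (q + 1) ^ 3 + (q + 1) ^ 2 = q * (q + 2) * (q + 2) + 1 + (q + 1) := by ring
      omega
    have e2 : (q + 1) ^ 2 - 1 = q * (q + 2) := by
      have : (q + 1) ^ 2 = q * (q + 2) + 1 := by ring
      omega
    rw [e1] at h1
    rw [e2]
    have h3 : r k ∣ q * (q + 2) * (q + 2) := by
      have := (Nat.modEq_iff_dvd' (by omega)).1 h1.symm
      simpa using this
    rcases (hr k).dvd_mul.1 h3 with h | h
    · exact h
    · exact h.mul_left q
  apply hk
  obtain ⟨m, hm⟩ := h2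
  have h3 : Nat.card F ^ 2 = r k * m + 1 := by
    have : 1 ≤ Nat.card F ^ 2 := Nat.one_le_pow _ _ (by omega)
    omega
  rw [h3, pow_succ, pow_mul, hTr, one_pow, one_mul]

/-- the fixed space in a nondegenerate subspace is nondegenerate -/
def fixOf (S : End F V) (A : Submodule F V) : Submodule F V where
  carrier := {v | v ∈ A ∧ S v = v}
  zero_mem' := ⟨A.zero_mem, map_zero _⟩
  add_mem' := fun {u v} hu hv => ⟨A.add_mem hu.1 hv.1, by rw [map_add, hu.2, hv.2]⟩
  smul_mem' := fun a v hv => ⟨A.smul_mem a hv.1, by rw [map_smul, hv.2]⟩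

theorem fix_nonD {S : End F V} {r : ℕ} (hr : (r : F) ≠ 0) (hS : S ^ r = 1) (hI : Iso Q S) {A : Submodule F V}
    (hA : ∀ v ∈ A, S v ∈ A) (hn : NonD Q A) : NonD Q (fixOf S A) := by
  intro x hx hxy
  apply hn x hx.1
  intro y hy
  obtain ⟨u, hu, w, hw, h1, rfl⟩ := decomp hr hS hA hy
  rw [QuadraticMap.polar_add_right, hxy u ⟨hu, h1⟩, zero_add]
  exact polar_fix hI hx.2 w

end geom

section main

variable {F V G Ω ι : Type} [Field F] [Finite F] [AddCommGroup V] [Module F V] [FiniteDimensional F V]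
  [Group G] [Finite G] [MulAction G Ω] [Nonempty Ω] [Finite ι]
  {Q : QuadraticForm F V} {N : Subgroup G} {ρ : ↥(E Q) →* G} {x : ι → G} {M : ι → Gam Q} {r : ι → ℕ}
  {T : ι → V ≃ₗ[F] V} {p : ℕ}

theorem scalOn_iff (S : Sit Q N ρ Ω x M r T p) (i : ι) (W : Submodule F V) :
    ScalOn (M i) W ↔ ∃ c : F, c ≠ 0 ∧ ∀ v ∈ W, T i v = c • v := by
  obtain ⟨a, ha, h⟩ := S.lift i
  constructor
  · rintro ⟨c, hc, h'⟩
    refine ⟨a⁻¹ * c, mul_ne_zero (inv_ne_zero ha) hc, fun v hv => ?_⟩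
    rw [mul_smul, ← h' v hv, h, smul_smul, inv_mul_cancel₀ ha, one_smul]
  · rintro ⟨c, hc, h'⟩
    refine ⟨a * c, mul_ne_zero ha hc, fun v hv => ?_⟩
    rw [h, h' v hv, smul_smul]

theorem cast_ne [CharP F p] (S : Sit Q N ρ Ω x M r T p) (i : ι) : (r i : F) ≠ 0 := by
  intro h
  have h1 := (CharP.cast_eq_zero_iff F p (r i)).1 h
  rcases (Nat.dvd_prime (S.pf.prime i)).1 h1 with h2 | h2
  · subst h2
    exact CharP.char_ne_one F 1 rfl
  · exact S.rp i h2.symm

/-- fixed points of members not scalar on `D` -/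
theorem fpf' (S : Sit Q N ρ Ω x M r T p) {D : Submodule F V}
    (hirr : ∀ U ≤ D, (∀ i, ∀ v ∈ U, T i v ∈ U) → U ≠ ⊥ → U = D) (hTD : ∀ i, ∀ v ∈ D, T i v ∈ D)
    {i : ι} (h : ¬ ScalOn (M i) D) : ∀ v ∈ D, T i v = v → v = 0 := by
  apply fpf (en_comm S) hirr hTD i
  by_contra hcon
  push Not at hcon
  exact h ((scalOn_iff S i D).2 ⟨1, one_ne_zero, fun v hv => by rw [one_smul, hcon v hv]⟩)

/-- at most one member is not scalar if `q ≤ 3` -/
theorem sub3 (S : Sit Q N ρ Ω x M r T p) [CharP F p] {D : Submodule F V} (nD : NonD Q D) (hD4 : finrank F D = 4)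
    (hirr : ∀ U ≤ D, (∀ i, ∀ v ∈ U, T i v ∈ U) → U ≠ ⊥ → U = D) (hTD : ∀ i, ∀ v ∈ D, T i v ∈ D)
    (hq : Nat.card F ≤ 3) : {i | ¬ ScalOn (M i) D}.Subsingleton := by
  have hfV : Finite V := Module.finite_of_finite F
  have hq2 : 2 ≤ Nat.card F := Finite.one_lt_card
  have hdvd : ∀ i, ¬ ScalOn (M i) D → r i ∣ Nat.card F ^ 4 - 1 := by
    intro i hi
    have h1 := dvd_card (Y := D) (S := en T i) (S.pf.prime i) (en_pow S i) (hTD i) (fpf' S hirr hTD hi)
    rwa [Module.natCard_eq_pow_finrank (K := F), hD4] at h1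
  have hq23 : Nat.card F = 2 ∨ Nat.card F = 3 := by omega
  rcases hq23 with h2 | h3
  · have h5 : ∀ i, ¬ ScalOn (M i) D → r i = 3 ∨ r i = 5 := by
      intro i hi
      have h1 := hdvd i hi
      rw [h2] at h1
      have h6 : r i ∣ 3 * 5 := by norm_num at h1 ⊢; exact h1
      rcases (S.pf.prime i).dvd_mul.1 h6 with h | h
      · exact Or.inl ((Nat.prime_dvd_prime_iff_eq (S.pf.prime i) Nat.prime_three).1 h)
      · exact Or.inr ((Nat.prime_dvd_prime_iff_eq (S.pf.prime i) Nat.prime_five).1 h)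
    have key : ∀ i j, ¬ ScalOn (M i) D → ¬ ScalOn (M j) D → r i = 3 → r j = 5 → False := by
      intro i j hi hj hi3 hj5
      have e1 := en_pow S i
      have e2 := en_pow S j
      rw [hi3] at e1
      rw [hj5] at e2
      exact three_five h2 e1 e2 (en_iso S i) (en_iso S j) (hTD i) (hTD j) nD hD4 (fpf' S hirr hTD hi)
        (fpf' S hirr hTD hj)
    intro i hi j hj
    apply S.pf.inj
    rcases h5 i hi with h | h <;> rcases h5 j hj with h' | h'
    · rw [h, h']
    · exact (key i j hi hj h h').elim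
    · exact (key j i hj hi h' h).elim
    · rw [h, h']
  · have h5 : ∀ i, ¬ ScalOn (M i) D → r i = 5 := by
      intro i hi
      have h1 := hdvd i hi
      rw [h3] at h1
      have h6 : r i ∣ 2 ^ 4 * 5 := by norm_num at h1 ⊢; exact h1
      rcases (S.pf.prime i).dvd_mul.1 h6 with h | h
      · exfalso
        have h7 : r i = 2 := (Nat.prime_dvd_prime_iff_eq (S.pf.prime i) Nat.prime_two).1
          ((S.pf.prime i).dvd_of_dvd_pow h)
        apply hi
        rw [scalOn_iff S]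
        refine ⟨-1, neg_ne_zero.2 one_ne_zero, fun v hv => ?_⟩
        have h8 : T i (T i v) = v := by
          have h9 := LinearMap.congr_fun (en_pow S i) v
          rw [h7] at h9
          exact h9
        have h10 := fpf' S hirr hTD hi (v + T i v) (D.add_mem hv (hTD i v hv)) (by
          rw [map_add, h8, add_comm])
        rw [neg_smul, one_smul]
        exact eq_neg_of_add_eq_zero_right h10
      · exact (Nat.prime_dvd_prime_iff_eq (S.pf.prime i) Nat.prime_five).1 h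
    intro i hi j hj
    apply S.pf.inj
    rw [h5 i hi, h5 j hj]

/-- the final step -/
theorem case3_aux [CharP F p] (hL2 : L2 F p) (S : Sit Q N ρ Ω x M r T p) (h8 : finrank F V = 8)
    {D D' : Submodule F V} (hD4 : finrank F D = 4) (hD4' : finrank F D' = 4) (hcp : IsCompl D D')
    (ho : ∀ v ∈ D, ∀ w ∈ D', polar Q v w = 0) (hTD : ∀ i, ∀ v ∈ D, T i v ∈ D)
    (hTD' : ∀ i, ∀ v ∈ D', T i v ∈ D')
    (hirr : ∀ U ≤ D, (∀ i, ∀ v ∈ U, T i v ∈ U) → U ≠ ⊥ → U = D)
    (hirr' : ∀ U ≤ D', (∀ i, ∀ v ∈ U, T i v ∈ U) → U ≠ ⊥ → U = D')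
    (hM4 : Minus4 (Q.comp D.subtype)) : False := by
  have hfV : Finite V := Module.finite_of_finite F
  have nD := nonD_left S.good.nondeg hcp ho
  have nD' := nonD_right S.good.nondeg hcp ho
  have hDt : D ≠ ⊤ := by
    intro h
    rw [h, finrank_top] at hD4
    omega
  have hMD : ∀ i, ∀ v ∈ D, (M i).1 v ∈ D := by
    intro i v hv
    obtain ⟨a, -, h⟩ := S.lift i
    rw [h]
    exact D.smul_mem _ (hTD i v hv)
  -- some member is not scalar on `D`
  have hneD : ∃ i, ¬ ScalOn (M i) D := by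
    obtain ⟨k, v0, hv0, hk⟩ := exists_big (en_comm S) hD4 hTD hirr
    refine ⟨k, fun hs => hk ?_⟩
    obtain ⟨c, hc0, hc⟩ := (scalOn_iff S k D).1 hs
    have h1 : ∀ n, (en T k ^ n) v0 = c ^ n • v0 := by
      intro n
      induction n with
      | zero => simp
      | succ n ih =>
        have h2 : en T k v0 = c • v0 := hc v0 hv0
        rw [pow_succ, Module.End.mul_apply, h2, map_smul, ih, smul_smul, pow_succ, mul_comm]
    have := Fintype.ofFinite F
    have h2 : en T k v0 = c • v0 := hc v0 hv0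
    rw [h1, h2, pow_two, pow_mul, Nat.card_eq_fintype_card, FiniteField.pow_card, FiniteField.pow_card]
  have hRC : RC (P (Q.comp D.subtype)) ∨ {i | ¬ ScalOn (M i) D}.Subsingleton := by
    by_cases h3 : Nat.card F ≤ 3
    · exact Or.inr (sub3 S nD hD4 hirr hTD h3)
    · exact Or.inl (hM4.rc S.ih (card_lt4 S.good D hM4 hDt) (by omega))
  have hrule := mrule4 (Ω := Ω) S.good S.rep S.lf S.pf.prime S.pf.pow S.pf.comm S.cov hM4 hDt hMD hneD
    S.pf.inj.injOn hRC
  -- the new element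
  obtain ⟨g, s, hs, hsp, hgs, hg1, v1, hv1, hgv1⟩ := hL2 D (Q.comp D.subtype) hM4
  have hs0 : (s : F) ≠ 0 := by
    intro h
    have h1 := (CharP.cast_eq_zero_iff F p s).1 h
    rcases (Nat.dvd_prime hs).1 h1 with h2 | h2
    · subst h2
      exact CharP.char_ne_one F 1 rfl
    · exact hsp h2.symm
  set e := embW hM4.nondeg with hedef
  let γ : ↥(E Q) := e.extE g
  have hγj : ∀ v : D, (γ : V ≃ₗ[F] V) (v : V) = ((g : D ≃ₗ[F] D) v : V) := fun v => e.ext_j g v
  have hγD' : ∀ v ∈ D', (γ : V ≃ₗ[F] V) v = v := by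
    intro v hv
    apply e.ext_of_π_eq_zero
    apply hM4.nondeg
    intro y
    have h1 := e.adj y v
    rw [embW_j, embW_c, one_mul] at h1
    rw [QuadraticMap.polar_comm, ← h1]
    exact ho y y.2 v hv
  let S0 : End F V := ((γ : V ≃ₗ[F] V) : V →ₗ[F] V)
  have hS0 : S0 ^ s = 1 := by
    have h1 : ∀ n, S0 ^ n = (((γ ^ n : ↥(E Q)) : V ≃ₗ[F] V) : V →ₗ[F] V) := by
      intro n
      induction n with
      | zero => rfl
      | succ n ih => rw [pow_succ, ih, pow_succ]; rfl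
    rw [h1]
    have h2 : γ ^ s = 1 := by
      show (e.extE g) ^ s = 1
      rw [← map_pow, hgs, map_one]
    rw [h2]
    rfl
  have hS0I : Iso Q S0 := fun v => E_le_O γ.2 v
  have hS0D : ∀ v ∈ D, S0 v ∈ D := by
    intro v hv
    have h1 := hγj ⟨v, hv⟩
    have h2 : S0 v = ((g : D ≃ₗ[F] D) ⟨v, hv⟩ : V) := h1
    rw [h2]
    exact Subtype.mem _
  let C := fixOf S0 D
  have nC : NonD Q C := fix_nonD hs0 hS0 hS0I hS0D nD
  have hCD : C ≤ D := fun v hv => hv.1
  have hC0 : C ≠ ⊥ := by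
    intro h
    have h1 : (v1 : V) ∈ C := ⟨v1.2, (hγj v1).trans (congrArg Subtype.val hgv1)⟩
    rw [h, Submodule.mem_bot] at h1
    exact hv1 (Subtype.ext h1)
  have hCne : C ≠ D := by
    intro h
    apply hg1
    apply Subtype.ext
    ext v
    have h1 : (v : V) ∈ C := by rw [h]; exact v.2
    have h2 : (γ : V ≃ₗ[F] V) (v : V) = v := h1.2
    rw [hγj] at h2
    exact h2
  have hC4 : finrank F C < 4 := by
    rw [← hD4]
    exact Submodule.finrank_lt_finrank_of_lt (lt_of_le_of_ne hCD hCne)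
  have hC1 : finrank F C ≠ 0 := fun h => hC0 (Submodule.finrank_eq_zero.1 h)
  let W := C ⊔ D'
  have hWd : finrank F W = finrank F C + 4 := by
    have h3 := Submodule.finrank_sup_add_finrank_inf_eq C D'
    have h4 : C ⊓ D' = ⊥ := by
      rw [eq_bot_iff, ← hcp.inf_eq_bot]
      exact inf_le_inf_right _ hCD
    rw [h4, finrank_bot, hD4', add_zero] at h3
    exact h3
  have nW : NonD Q W := nonD_sup nC nD' fun v hv w hw => ho v (hCD hv) w hw
  have gW : Good (Q.comp W.subtype) :=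
    Cfsg.Agent.LieClassical.OrthFinite.good_of_finite (nonD_iff.1 nW) (by rw [hWd]; omega)
  have hWt : W ≠ ⊤ := by
    intro h
    rw [h, finrank_top] at hWd
    omega
  -- the new family
  let κ := Option {i : ι // ScalOn (M i) D}
  let y : κ → G := fun o => o.elim (ρ γ) (fun i => x i)
  let L : κ → Gam Q := fun o => o.elim (tg Q γ) (fun i => M i)
  let t : κ → ℕ := fun o => o.elim s (fun i => r i)
  have hcent : ∀ i : {i : ι // ScalOn (M i) D}, x i * ρ γ = ρ γ * x i := fun i =>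
    (cent_iff4 S.good S.rep hM4 hDt (S.lf i) (hMD i)).2 i.2 _ ⟨g, rfl⟩
  have hγs : ρ γ ^ s = 1 := by
    have h2 : γ ^ s = 1 := by
      show (e.extE g) ^ s = 1
      rw [← map_pow, hgs, map_one]
    rw [← map_pow, h2, map_one]
  have hγ1 : ρ γ ≠ 1 := by
    intro h
    apply hg1
    apply phi_injective (ρ := ρ) S.good S.rep hM4.nondeg hDt
    rw [map_one]
    exact h
  have hycov : Cov Ω y := by
    intro ω
    rcases hrule ω with h | ⟨j, hj, hjω⟩
    · refine ⟨none, ?_⟩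
      have h1 : ρ γ ∈ (phi ρ hM4.nondeg).range := ⟨g, rfl⟩
      exact h h1
    · exact ⟨some ⟨j, hj⟩, hjω⟩
  have hscW : ∀ i : {i : ι // ScalOn (M i) D}, ¬ ScalOn (M i) W := by
    rintro ⟨i, hi⟩ hW
    obtain ⟨c, hc0, hc⟩ := hW
    obtain ⟨d, hd0, hd⟩ := hi
    apply S.pf.ne i
    rw [(S.lf i).eq_one_iff S.good S.env S.rep]
    have hcd : c = d := by
      obtain ⟨v, hv, hv0⟩ := Submodule.exists_mem_ne_zero_of_ne_bot hC0
      have h1 := hc v (Submodule.mem_sup_left hv)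
      have h2 := hd v (hCD hv)
      have h3 : (c - d) • v = 0 := by rw [sub_smul, ← h1, ← h2, sub_self]
      exact sub_eq_zero.1 ((smul_eq_zero.1 h3).resolve_right hv0)
    refine ⟨c, hc0, fun v => ?_⟩
    obtain ⟨u, hu, w, hw, rfl⟩ := Submodule.mem_sup.1 (hcp.sup_eq_top ▸ Submodule.mem_top : v ∈ D ⊔ D')
    rw [add_of_mem (M i).2, hd u hu, hc w (Submodule.mem_sup_right hw), hcd, smul_add]
  have hscn : ScalOn (L none) W := by
    refine ⟨1, one_ne_zero, fun v hv => ?_⟩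
    obtain ⟨u, hu, w, hw, rfl⟩ := Submodule.mem_sup.1 hv
    show (γ : V ≃ₗ[F] V) (u + w) = _
    rw [map_add, hγD' w hw, one_smul]
    congr 1
    exact hu.2
  have hne : ∃ i, ¬ ScalOn (L i) W := by
    by_contra hcon
    push Not at hcon
    have h1 : ∀ i : {i : ι // ScalOn (M i) D}, False := fun i => hscW i (hcon (some i))
    apply hγ1
    apply S.env.single (Ω := Ω)
    intro ω
    obtain ⟨(_ | i), hi⟩ := hycov ω
    · exact hi
    · exact (h1 i).elim
  have hLinv : ∀ i, ∀ v ∈ W, (L i).1 v ∈ W := by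
    rintro (_ | i) v hv
    · obtain ⟨c, -, hc⟩ := hscn
      rw [hc v hv]
      exact W.smul_mem _ hv
    · obtain ⟨u, hu, w, hw, rfl⟩ := Submodule.mem_sup.1 hv
      show (M i).1 (u + w) ∈ W
      rw [add_of_mem (M i).2]
      obtain ⟨d, hd0, hd⟩ := i.2
      obtain ⟨a, -, ha⟩ := S.lift i
      rw [hd u (hCD hu), ha w]
      exact Submodule.add_mem_sup (C.smul_mem _ hu) (D'.smul_mem _ (hTD' i w hw))
  have hinj : Set.InjOn t {i | ¬ ScalOn (L i) W} := by
    rintro (_ | i) hi (_ | j) hj hij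
    · rfl
    · exact (hi hscn).elim
    · exact (hj hscn).elim
    · exact congrArg some (Subtype.ext (S.pf.inj hij))
  have hRCW : RC (P (Q.comp W.subtype)) ∨ {i | ¬ ScalOn (L i) W}.Subsingleton := by
    obtain ⟨hs1, hnc, hcl, hex⟩ := box_id gW
    have hfP := finite_P (Q := Q.comp W.subtype)
    rcases hex with ⟨h2, -, -⟩ | hex
    · right
      have h3 := sub3 S nD' hD4' hirr' hTD' (by omega)
      have h4 : ∀ i : {i : ι // ScalOn (M i) D}, ¬ ScalOn (M i) D' := by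
        rintro ⟨i, hi⟩ hi'
        apply hscW ⟨i, hi⟩
        obtain ⟨c, hc0, hc⟩ := hi
        obtain ⟨d, hd0, hd⟩ := hi'
        refine ⟨1, one_ne_zero, fun v hv => ?_⟩
        obtain ⟨u, hu, w, hw, rfl⟩ := Submodule.mem_sup.1 hv
        rw [add_of_mem (M i).2, hc u (hCD hu), hd w hw, eq_one_of_ne h2 hc0, eq_one_of_ne h2 hd0, smul_add]
      rintro (_ | i) hi (_ | j) hj
      · rfl
      · exact (hi hscn).elim
      · exact (hj hscn).elim
      · exact congrArg some (Subtype.ext (h3 (h4 i) (h4 j)))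
    · left
      exact S.ih (P (Q.comp W.subtype)) hs1 hnc hcl hex (box_card S.good W gW hWt)
  refine box_A_of S.good S.rep (p := p) S.box (x := y) (M := L) (r := t) ?_ ?_ ?_ ?_ ?_ hycov W gW hWt hLinv
    hne hinj ?_ hRCW
  · rintro (_ | i)
    · exact Lf.tg γ
    · exact S.lf i
  · rintro (_ | i)
    · exact hs
    · exact S.pf.prime i
  · rintro (_ | i)
    · exact hγs
    · exact S.pf.pow i
  · rintro (_ | i)
    · exact hγ1
    · exact S.pf.ne i
  · rintro (_ | i) (_ | j)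
    · rfl
    · exact (hcent j).symm
    · exact hcent i
    · exact S.pf.comm i j
  · rintro (_ | i) hi
    · exact hsp
    · exact (hscW i hi).elim

/-- **Box E5, case (3)** from `L1`, `L2`. -/
theorem case3_of [CharP F p] (hL1 : L1 F) (hL2 : L2 F p) (S : Sit Q N ρ Ω x M r T p) (h : Case3 Q T) : False := by
  obtain ⟨h8, D, D', hD4, hD4', hcp, ho, hTD, hTD', hmin⟩ := h
  have nD := nonD_left S.good.nondeg hcp ho
  have nD' := nonD_right S.good.nondeg hcp ho
  have ho' : ∀ v ∈ D', ∀ w ∈ D, polar Q v w = 0 := fun v hv w hw => by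
    rw [QuadraticMap.polar_comm]; exact ho w hw v hv
  have hno : ∀ u w : V, Q u = 0 → Q w = 0 → polar Q u w = 0 → u ≠ 0 → (∀ a : F, w ≠ a • u) →
      ¬ ∀ i, ∀ v ∈ Submodule.span F {u, w}, T i v ∈ Submodule.span F {u, w} :=
    fun u w hu hw huw hu0 hind hL => ruleP S hu hw huw hu0 hind hL
  have hirr : ∀ U ≤ D, (∀ i, ∀ v ∈ U, T i v ∈ U) → U ≠ ⊥ → U = D := fun U hU hTU hU0 =>
    irr S.good.nondeg h8 (cast_ne S) (en_pow S) (en_iso S) (en_comm S) hD4 hD4' hcp ho hTD hmin hno hU hTU hU0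
  have hirr' : ∀ U ≤ D', (∀ i, ∀ v ∈ U, T i v ∈ U) → U ≠ ⊥ → U = D' := fun U hU hTU hU0 =>
    irr S.good.nondeg h8 (cast_ne S) (en_pow S) (en_iso S) (en_comm S) hD4' hD4 hcp.symm ho' hTD' hmin hno hU hTU hU0
  exact case3_aux hL2 S h8 hD4 hD4' hcp ho hTD hTD' hirr hirr'
    (noplane hL1 S.pf.prime (en_pow S) (en_iso S) (en_comm S) nD hD4 hTD hirr)

/-- **Box E5, case (3).** -/
theorem case3 [CharP F p] (S : Sit Q N ρ Ω x M r T p) (h : Case3 Q T) : False := by
  refine case3_of ?_ ?_ S h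
  · intro X _ _ R hR h4 L hL2 hL
    exact Cfsg.Agent.H273.RC.Case3.card_plus hR h4 L hL hL2
  · intro X _ _ R hR
    have : Fact p.Prime := ⟨CharP.char_is_prime F p⟩
    obtain ⟨g, hg, s, hs, hsp, hgs, hg1, v, hv, hgv⟩ := Cfsg.Agent.H273.RC.Case3.exists_ss_M (p := p) hR
    exact ⟨⟨g, hg⟩, s, hs, hsp, Subtype.ext hgs, fun h => hg1 (congrArg Subtype.val h), v, hv, hgv⟩

end main

end Cfsg.Agent.H551.E5
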