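import Cfsg.Agent.H273.RC.FevLin
import Cfsg.Agent.H551.E5.Case4

/-!
# S3510, row F (even), box E5, case (3): irreducibility (helper551)

`irr` : if there is no invariant totally singular plane and no invariant nondegenerate subspace of dimension `< 4`, then the
four-dimensional summands `D`, `D'` are irreducible.
`exists_field` : some member satisfies `T^(q²) ≠ T` on an irreducible `D` of dimension `4`.
-/

set_option autoImplicit false
set_option linter.unusedSectionVars false
open Cfsg

namespace Cfsg.Agent.H551.E5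

open QuadraticMap Module
open Cfsg.Agent.LieClassical.OrthCore Cfsg.Agent.H955 Cfsg.Agent.H273.RC.Fev

section dual

variable {F V ι : Type} [Field F] [AddCommGroup V] [Module F V] {Q : QuadraticForm F V}

/-- a common eigenvector has a dual common eigenvector -/
theorem exists_dual [Finite ι] {T : ι → End F V} {r : ι → ℕ} (hr : ∀ i, (r i : F) ≠ 0)
    (hTr : ∀ i, T i ^ r i = 1) (hI : ∀ i, Iso Q (T i)) (hc : ∀ i j, T i * T j = T j * T i)
    {D : Submodule F V} (hD : NonD Q D) (hTD : ∀ i, ∀ v ∈ D, T i v ∈ D) {e : V} (he : e ∈ D) (he0 : e ≠ 0)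
    {c : ι → F} (hce : ∀ i, T i e = c i • e) :
    ∃ f ∈ D, polar Q e f = 1 ∧ ∀ i, ∃ c' : F, T i f = c' • f := by
  classical
  cases nonempty_fintype ι
  have hpe : ∀ i n, (T i ^ n) e = c i ^ n • e := by
    intro i n
    induction n with
    | zero => simp
    | succ n ih => rw [pow_succ, Module.End.mul_apply, hce, map_smul, ih, smul_smul, pow_succ, mul_comm]
  have hcr : ∀ i, c i ^ r i = 1 := by
    intro i
    have h1 := hpe i (r i)
    rw [hTr] at h1
    have h2 : (1 - c i ^ r i) • e = 0 := by
      rw [sub_smul, one_smul, ← h1]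
      exact sub_self e
    exact (sub_eq_zero.1 ((smul_eq_zero.1 h2).resolve_right he0)).symm
  have hr0 : ∀ i, r i ≠ 0 := by
    intro i h
    apply hr i
    rw [h, Nat.cast_zero]
  have hc0 : ∀ i, c i ≠ 0 := by
    intro i h
    have := hcr i
    rw [h, zero_pow (hr0 i)] at this
    exact zero_ne_one this
  have key : ∀ s : Finset ι, ∃ f ∈ D, polar Q e f = 1 ∧ ∀ i ∈ s, T i f = (c i)⁻¹ • f := by
    intro s
    induction s using Finset.induction_on with
    | empty =>
      obtain ⟨y, hy, hne⟩ : ∃ y ∈ D, polar Q e y ≠ 0 := by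
        by_contra hcon
        push Not at hcon
        exact he0 (hD e he hcon)
      refine ⟨(polar Q e y)⁻¹ • y, D.smul_mem _ hy, ?_, by simp⟩
      rw [QuadraticMap.polar_smul_right, smul_eq_mul, inv_mul_cancel₀ hne]
    | insert a s ha ih =>
      obtain ⟨f, hf, hef, hfs⟩ := ih
      let S : End F V := c a • T a
      have hSr : S ^ r a = 1 := by
        rw [smul_pow, hcr, hTr, one_smul]
      have hSD : ∀ v ∈ D, S v ∈ D := fun v hv => D.smul_mem _ (hTD a v hv)
      have hSp : ∀ w, polar Q e (S w) = polar Q e w := by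
        intro w
        have h1 := (hI a).polar e w
        rw [hce, QuadraticMap.polar_smul_left] at h1
        show polar Q e (c a • T a w) = _
        rw [QuadraticMap.polar_smul_right, h1]
      have hSk : ∀ k, polar Q e ((S ^ k) f) = 1 := by
        intro k
        induction k with
        | zero => exact hef
        | succ k ih => rw [pow_succ', Module.End.mul_apply, hSp, ih]
      refine ⟨(r a : F)⁻¹ • (∑ k ∈ Finset.range (r a), S ^ k) f, D.smul_mem _ ?_, ?_, ?_⟩
      · rw [LinearMap.sum_apply]
        exact Submodule.sum_mem _ fun k _ => pow_mem hSD hf k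
      · rw [QuadraticMap.polar_smul_right, LinearMap.sum_apply]
        have h1 : polar Q e (∑ k ∈ Finset.range (r a), (S ^ k) f) =
            ∑ k ∈ Finset.range (r a), polar Q e ((S ^ k) f) := map_sum (polarBilin Q e) _ _
        rw [h1, Finset.sum_congr rfl fun k _ => hSk k, Finset.sum_const, Finset.card_range, nsmul_eq_mul,
          mul_one, smul_eq_mul, inv_mul_cancel₀ (hr a)]
      · intro i hi
        rw [Finset.mem_insert] at hi
        rcases hi with rfl | hi
        · have h1 : (S - 1) * (∑ k ∈ Finset.range (r i), S ^ k) = 0 := by rw [mul_geom_sum, hSr, sub_self]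
          have h2 : S ((∑ k ∈ Finset.range (r i), S ^ k) f) = (∑ k ∈ Finset.range (r i), S ^ k) f :=
            sub_eq_zero.1 (LinearMap.congr_fun h1 f)
          have h3 : c i • T i ((∑ k ∈ Finset.range (r i), S ^ k) f) = (∑ k ∈ Finset.range (r i), S ^ k) f := h2
          rw [map_smul]
          conv_rhs => rw [← h3]
          rw [smul_comm ((c i)⁻¹), smul_smul ((c i)⁻¹), inv_mul_cancel₀ (hc0 i), one_smul]
        · have hcS : T i * S = S * T i := by
            rw [mul_smul_comm, smul_mul_assoc, hc]
          have hck : ∀ k, T i ((S ^ k) f) = (c i)⁻¹ • (S ^ k) f := by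
            intro k
            have h1 : T i * S ^ k = S ^ k * T i := (Commute.pow_right (show Commute (T i) S from hcS) k).eq
            have h2 := LinearMap.congr_fun h1 f
            rw [Module.End.mul_apply, Module.End.mul_apply, hfs i hi, map_smul] at h2
            exact h2
          rw [map_smul, LinearMap.sum_apply, map_sum, Finset.sum_congr rfl fun k _ => hck k, ← Finset.smul_sum,
            smul_comm]
  obtain ⟨f, hf, hef, h⟩ := key Finset.univ
  exact ⟨f, hf, hef, fun i => ⟨_, h i (Finset.mem_univ i)⟩⟩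

end dual

section irr

variable {F V ι : Type} [Field F] [Finite F] [AddCommGroup V] [Module F V] [FiniteDimensional F V]
  {Q : QuadraticForm F V} [Finite ι]

/-- no common eigenvector -/
theorem no_line {T : ι → V ≃ₗ[F] V} {r : ι → ℕ} (hr : ∀ i, (r i : F) ≠ 0)
    (hTr : ∀ i, en T i ^ r i = 1) (hI : ∀ i, Iso Q (en T i)) (hc : ∀ i j, en T i * en T j = en T j * en T i)
    {D : Submodule F V} (hD : NonD Q D) (hTD : ∀ i, ∀ v ∈ D, T i v ∈ D)
    (hmin : ∀ W : Submodule F V, Nondeg (Q.comp W.subtype) → (∀ i, ∀ v ∈ W, T i v ∈ W) → W ≠ ⊥ → 4 ≤ finrank F W)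
    {e : V} (he : e ∈ D) (he0 : e ≠ 0) (hce : ∀ i, ∃ c : F, T i e = c • e) (hq : Q e = 0 ∨ (2 : F) = 0) : False := by
  choose c hc' using hce
  obtain ⟨f, hf, hef, hfc⟩ := exists_dual (T := en T) hr hTr hI hc hD hTD he he0 hc'
  have h1 : 4 * Q e * Q f ≠ polar Q e f ^ 2 := by
    rw [hef, one_pow]
    have h4 : 4 * Q e * Q f = 0 := by
      rcases hq with h | h
      · rw [h]; ring
      · linear_combination (2 * Q e * Q f) * h
    rw [h4]
    exact zero_ne_one
  have h2 := plane_nondeg h1
  have h3 := hmin _ h2.1 (by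
    intro i v hv
    obtain ⟨a, b, rfl⟩ := Submodule.mem_span_pair.1 hv
    obtain ⟨c', hf'⟩ := hfc i
    have hf'' : T i f = c' • f := hf'
    rw [map_add, map_smul, map_smul, hc', hf'']
    exact Submodule.mem_span_pair.2 ⟨a * c i, b * c', by rw [mul_smul, mul_smul]⟩) (by
    intro h0
    apply he0
    have h5 : e ∈ Submodule.span F {e, f} := Submodule.subset_span (by simp)
    rw [h0] at h5
    exact (Submodule.mem_bot F).1 h5)
  rw [h2.2] at h3
  omega

/-- the singular vectors of a totally isotropic subspace -/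
def singOf (Q : QuadraticForm F V) (R : Submodule F V) (hR : ∀ u ∈ R, ∀ v ∈ R, polar Q u v = 0) :
    Submodule F V where
  carrier := {v | v ∈ R ∧ Q v = 0}
  zero_mem' := ⟨R.zero_mem, QuadraticMap.map_zero Q⟩
  add_mem' := fun {u v} hu hv => ⟨R.add_mem hu.1 hv.1, by
    rw [Q_add, hu.2, hv.2, hR u hu.1 v hv.1, add_zero, add_zero]⟩
  smul_mem' := fun a v hv => ⟨R.smul_mem a hv.1, by rw [QuadraticMap.map_smul, hv.2, smul_zero]⟩

/-- **Irreducibility of the summands.** -/
theorem irr (hQ : Nondeg Q) (h8 : finrank F V = 8) {T : ι → V ≃ₗ[F] V} {r : ι → ℕ} (hr : ∀ i, (r i : F) ≠ 0)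
    (hTr : ∀ i, en T i ^ r i = 1) (hI : ∀ i, Iso Q (en T i)) (hc : ∀ i j, en T i * en T j = en T j * en T i)
    {D D' : Submodule F V} (hD4 : finrank F D = 4) (hD4' : finrank F D' = 4) (hcp : IsCompl D D')
    (ho : ∀ v ∈ D, ∀ w ∈ D', polar Q v w = 0) (hTD : ∀ i, ∀ v ∈ D, T i v ∈ D)
    (hmin : ∀ W : Submodule F V, Nondeg (Q.comp W.subtype) → (∀ i, ∀ v ∈ W, T i v ∈ W) → W ≠ ⊥ → 4 ≤ finrank F W)
    (hno : ∀ u w : V, Q u = 0 → Q w = 0 → polar Q u w = 0 → u ≠ 0 → (∀ a : F, w ≠ a • u) →
      ¬ ∀ i, ∀ v ∈ Submodule.span F {u, w}, T i v ∈ Submodule.span F {u, w})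
    {U : Submodule F V} (hUD : U ≤ D) (hTU : ∀ i, ∀ v ∈ U, T i v ∈ U) (hU0 : U ≠ ⊥) : U = D := by
  classical
  by_contra hne
  have hD := nonD_left hQ hcp ho
  have hlt : finrank F U < 4 := by
    rw [← hD4]
    exact Submodule.finrank_lt_finrank_of_lt (lt_of_le_of_ne hUD hne)
  -- the radical
  set R := U ⊓ perp Q U with hR
  have hTR : ∀ i, ∀ v ∈ R, T i v ∈ R := fun i v hv =>
    ⟨hTU i v hv.1, perp_inv (fun v => hI i v) (hTU i) v hv.2⟩
  have hRt : ∀ u ∈ R, ∀ v ∈ R, polar Q u v = 0 := fun u hu v hv => hv.2 u hu.1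
  have hR0 : R ≠ ⊥ := by
    intro h0
    have h1 : NonD Q U := by
      intro x hx hxy
      have h2 : x ∈ R := ⟨hx, fun w hw => by rw [QuadraticMap.polar_comm]; exact hxy w hw⟩
      rw [h0] at h2
      exact (Submodule.mem_bot F).1 h2
    have h2 := hmin U (nonD_iff.1 h1) hTU hU0
    omega
  have hRD : R ≤ D := inf_le_left.trans hUD
  have hR2 : finrank F R ≤ 2 := by
    have h1 := finrank_add_perp hQ R
    have h2 : R ⊔ D' ≤ perp Q R := by
      refine sup_le ?_ ?_
      · intro v hv u hu
        exact hRt u hu v hv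
      · intro v hv u hu
        exact ho u (hRD hu) v hv
    have h3 := Submodule.finrank_mono h2
    have h4 := Submodule.finrank_sup_add_finrank_inf_eq R D'
    have h5 : R ⊓ D' = ⊥ := by
      rw [eq_bot_iff, ← hcp.inf_eq_bot]
      exact inf_le_inf_right _ hRD
    rw [h5, finrank_bot] at h4
    omega
  have hR1 : finrank F R ≠ 0 := fun h => hR0 (Submodule.finrank_eq_zero.1 h)
  have line : ∀ e ∈ D, e ≠ 0 → (∀ i, ∃ c : F, T i e = c • e) → (Q e = 0 ∨ (2 : F) = 0) → False :=
    fun e he he0 hce hq => no_line hr hTr hI hc hD hTD hmin he he0 hce hq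
  -- invariant lines
  have line' : ∀ L : Submodule F V, L ≤ D → finrank F L = 1 → (∀ i, ∀ v ∈ L, T i v ∈ L) →
      ((∀ v ∈ L, Q v = 0) ∨ (2 : F) = 0) → False := by
    intro L hL hL1 hTL hq
    obtain ⟨⟨e, heL⟩, he0, he⟩ := finrank_eq_one_iff'.1 hL1
    refine line e (hL heL) (fun h => he0 (Subtype.ext h)) (fun i => ?_) ?_
    · obtain ⟨c, hc⟩ := he ⟨T i e, hTL i e heL⟩
      exact ⟨c, (congrArg Subtype.val hc).symm⟩
    · rcases hq with h | h
      · exact Or.inl (h e heL)
      · exact Or.inr h
  have hsq : ∀ v ∈ R, (2 : F) ≠ 0 → Q v = 0 := by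
    intro v hv h2
    have h3 := hRt v hv v hv
    rw [polar_self'] at h3
    exact (mul_eq_zero.1 h3).resolve_left h2
  have hR12 : finrank F R = 1 ∨ finrank F R = 2 := by omega
  rcases hR12 with h1 | h2
  · refine line' R hRD h1 hTR ?_
    by_cases h2 : (2 : F) = 0
    · exact Or.inr h2
    · exact Or.inl fun v hv => hsq v hv h2
  by_cases hall : ∀ v ∈ R, Q v = 0
  · -- a totally singular plane
    let b := Module.finBasisOfFinrankEq F R h2
    have hli := b.linearIndependent
    have hspan : Submodule.span F {((b 0 : R) : V), ((b 1 : R) : V)} = R := by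
      have h3 := b.span_eq
      have h4 : Submodule.map R.subtype (Submodule.span F (Set.range b)) = Submodule.map R.subtype ⊤ := by rw [h3]
      rw [Submodule.map_span, Submodule.map_top, Submodule.range_subtype, ← Set.range_comp] at h4
      have h5 : Set.range (R.subtype ∘ b) = {((b 0 : R) : V), ((b 1 : R) : V)} := by
        ext v
        constructor
        · rintro ⟨i, rfl⟩
          fin_cases i
          · left; rfl
          · right; rfl
        · rintro (rfl | rfl)
          · exact ⟨0, rfl⟩
          · exact ⟨1, rfl⟩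
      rw [h5] at h4
      exact h4
    refine hno (b 0 : R) (b 1 : R) (hall _ (b 0).2) (hall _ (b 1).2) (hRt _ (b 0).2 _ (b 1).2) ?_ ?_ ?_
    · intro h
      exact b.ne_zero 0 (Subtype.ext h)
    · intro a ha
      have h3 := (LinearIndependent.pair_iff' (b.ne_zero 0)).1
        (by
          have h6 : ![b 0, b 1] = (b : Fin 2 → R) := by
            funext i; fin_cases i <;> rfl
          rw [h6]; exact hli) a
      exact h3 (Subtype.ext ha.symm)
    · rw [hspan]
      exact hTR
  · -- characteristic two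
    push Not at hall
    obtain ⟨v, hv, hQv⟩ := hall
    have h20 : (2 : F) = 0 := by
      by_contra h
      exact hQv (hsq v hv h)
    let R0 := singOf Q R hRt
    have hTR0 : ∀ i, ∀ w ∈ R0, T i w ∈ R0 := fun i w hw => ⟨hTR i w hw.1, by
      have := hI i w
      exact this.trans hw.2⟩
    have hR0R : R0 ≤ R := fun w hw => hw.1
    have hR0ne : R0 ≠ R := by
      intro h
      have h3 : v ∈ R0 := by rw [h]; exact hv
      exact hQv h3.2
    have hlt2 : finrank F R0 < 2 := by
      rw [← h2]
      exact Submodule.finrank_lt_finrank_of_lt (lt_of_le_of_ne hR0R hR0ne)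
    have hv0 : v ≠ 0 := by
      rintro rfl
      exact hQv (QuadraticMap.map_zero Q)
    -- a singular vector
    obtain ⟨w, hw, hwv⟩ : ∃ w ∈ R, ∀ a : F, w ≠ a • v := by
      by_contra hcon
      push Not at hcon
      have h3 : R ≤ Submodule.span F {v} := by
        intro w hw
        obtain ⟨a, ha⟩ := hcon w hw
        exact Submodule.mem_span_singleton.2 ⟨a, ha.symm⟩
      have h4 := Submodule.finrank_mono h3
      rw [finrank_span_singleton hv0] at h4
      omega
    have hchar : ringChar F = 2 := by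
      have h5 : ringChar F ∣ 2 := by
        rw [← ringChar.spec]
        exact_mod_cast h20
      rcases (Nat.dvd_prime Nat.prime_two).1 h5 with h | h
      · exfalso
        have := CharP.ringChar_ne_one (R := F)
        exact this h
      · exact h
    obtain ⟨a, ha⟩ := FiniteField.isSquare_of_char_two hchar (Q w / Q v)
    have hu : w - a • v ∈ R0 := by
      refine ⟨R.sub_mem hw (R.smul_mem a hv), ?_⟩
      have h5 : w - a • v = w + (-a) • v := by rw [neg_smul, sub_eq_add_neg]
      rw [h5, Q_add, QuadraticMap.map_smul, QuadraticMap.polar_smul_right, hRt w hw v hv, smul_zero, add_zero,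
        smul_eq_mul, neg_mul_neg, ← ha, div_mul_cancel₀ _ hQv]
      linear_combination Q w * h20
    have hR0b : finrank F R0 ≠ 0 := by
      intro h
      have h5 := Submodule.finrank_eq_zero.1 h
      rw [h5] at hu
      exact hwv a (sub_eq_zero.1 ((Submodule.mem_bot F).1 hu))
    exact line' R0 (hR0R.trans hRD) (by omega) hTR0 (Or.inr h20)

end irr

end Cfsg.Agent.H551.E5
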